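import Mathlib.RingTheory.ReesAlgebra
import Groth.Prelude.Def_Rees
import Groth.Prelude.Def_BlowUp2
import Mathlib.RingTheory.GradedAlgebra.HomogeneousLocalization
import Mathlib.RingTheory.GradedAlgebra.Homogeneous.Ideal

/-!
# The charts of `Proj` of a Rees algebra are the affine blow-up algebras
-/

set_option autoImplicit false
universe u

open Polynomial HomogeneousLocalization

namespace Groth.Agent.ReesBlow28

variable {A : Type u} [CommRing A] {I : Ideal A}

/-- The element `a X` of the Rees algebra. -/
noncomputable def tX (a : I) : reesAlgebra I :=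
  ⟨monomial 1 (a : A), reesAlgebra.monomial_mem.mpr (by rw [pow_one]; exact a.2)⟩

lemma tX_mem (a : I) : tX a ∈ Rees.deg (reesAlgebra I) 1 := fun m hm => by
  show (monomial 1 (a : A)).coeff m = 0
  rw [coeff_monomial]
  exact if_neg fun h => hm h.symm

lemma eq_monomial_of_mem {n : ℕ} {x : reesAlgebra I} (hx : x ∈ Rees.deg (reesAlgebra I) n) :
    (x : A[X]) = monomial n ((x : A[X]).coeff n) := by
  ext m
  rw [coeff_monomial]
  split_ifs with h
  · subst h; rfl
  · exact hx m (Ne.symm h)

/-- `c / a ^ n` in the localization. -/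
noncomputable def frac (a : A) (c : A) (n : ℕ) : Localization.Away a :=
  algebraMap A _ c * IsLocalization.Away.invSelf a ^ n

lemma frac_mem {a : A} {n : ℕ} {c : A} (hc : c ∈ I ^ n) : frac a c n ∈ BlowUp.affineAlgebra A I a := by
  induction n generalizing c with
  | zero => rw [frac, pow_zero, mul_one]; exact Subalgebra.algebraMap_mem _ c
  | succ n ih =>
    rw [pow_succ'] at hc
    refine Submodule.smul_induction_on hc (fun r hr s hs => ?_) fun x y hx hy => ?_
    · have hgen : algebraMap A (Localization.Away a) r * IsLocalization.Away.invSelf a ∈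
          BlowUp.affineAlgebra A I a := Algebra.subset_adjoin ⟨r, hr, by
            rw [IsLocalization.Away.invSelf, ← IsLocalization.mk'_eq_mul_mk'_one]⟩
      convert mul_mem hgen (ih hs) using 1
      rw [frac, frac, smul_eq_mul, map_mul, pow_succ]
      ring
    · rw [frac, map_add, add_mul]
      exact add_mem hx hy

/-- Evaluation at `X = 1`. -/
noncomputable def evalA (a : A) : reesAlgebra I →+* Localization.Away a :=
  ((aeval (1 : Localization.Away a)).toRingHom : A[X] →+* Localization.Away a).comp
    (reesAlgebra I).val.toRingHom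

lemma evalA_of_mem (a : A) {n : ℕ} {x : reesAlgebra I} (hx : x ∈ Rees.deg (reesAlgebra I) n) :
    evalA a x = algebraMap A _ ((x : A[X]).coeff n) := by
  show aeval (1 : Localization.Away a) (x : A[X]) = _
  conv_lhs => rw [eq_monomial_of_mem hx]
  rw [aeval_monomial, one_pow, mul_one]

lemma isUnit_evalA (a : I) : IsUnit (evalA (a : A) (tX a)) := by
  rw [evalA_of_mem _ (tX_mem a)]
  show IsUnit (algebraMap A (Localization.Away (a : A)) ((monomial 1 (a : A)).coeff 1))
  rw [coeff_monomial, if_pos rfl]
  exact IsLocalization.Away.algebraMap_isUnit _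

/-- The map from the degree zero part of the localization at `a X`. -/
noncomputable def σ₀ (a : I) : Away (Rees.deg (reesAlgebra I)) (tX a) →+* Localization.Away (a : A) :=
  (IsLocalization.Away.lift (S := Localization.Away (tX a)) (tX a) (isUnit_evalA a)).comp
    (algebraMap (Away (Rees.deg (reesAlgebra I)) (tX a)) (Localization.Away (tX a)))

lemma σ₀_mk (a : I) (n : ℕ) (x : reesAlgebra I) (hx : x ∈ Rees.deg (reesAlgebra I) (n • 1)) :
    σ₀ a (Away.mk _ (tX_mem a) n x hx) = frac (a : A) ((x : A[X]).coeff n) n := by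
  have hn : n • 1 = n := by simp
  refine ((IsLocalization.Away.algebraMap_isUnit (S := Localization.Away (a : A)) (a : A)).pow n).mul_left_inj.mp ?_
  have hr : frac (a : A) ((x : A[X]).coeff n) n * algebraMap A (Localization.Away (a : A)) a ^ n =
      algebraMap A _ ((x : A[X]).coeff n) := by
    have h1 : IsLocalization.Away.invSelf (a : A) * algebraMap A (Localization.Away (a : A)) a = 1 := by
      rw [mul_comm]; exact IsLocalization.Away.mul_invSelf _
    rw [frac, mul_assoc, ← mul_pow, h1, one_pow, mul_one]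
  rw [hr, ← evalA_of_mem (a : A) (hn ▸ hx : x ∈ Rees.deg (reesAlgebra I) n)]
  have hl : ∀ y, IsLocalization.Away.lift (S := Localization.Away (tX a)) (tX a) (isUnit_evalA a)
      (algebraMap _ _ y) = evalA (a : A) y := fun y => IsLocalization.Away.lift_eq _ _ _
  have ht : evalA (a : A) (tX a) = algebraMap A (Localization.Away (a : A)) a := by
    rw [evalA_of_mem _ (tX_mem a)]
    show algebraMap A (Localization.Away (a : A)) ((monomial 1 (a : A)).coeff 1) = _
    rw [coeff_monomial, if_pos rfl]
  rw [← ht, ← map_pow, ← hl (tX a ^ n), ← hl x, σ₀, RingHom.comp_apply, ← map_mul]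
  refine congrArg _ ?_
  rw [HomogeneousLocalization.algebraMap_apply, Away.val_mk, Localization.mk_eq_mk']
  exact IsLocalization.mk'_spec _ x _

lemma σ₀_mem (a : I) (z : Away (Rees.deg (reesAlgebra I)) (tX a)) :
    σ₀ a z ∈ BlowUp.affineAlgebra A I (a : A) := by
  obtain ⟨n, x, hx, rfl⟩ := Away.mk_surjective _ (tX_mem a) z
  rw [σ₀_mk]
  exact frac_mem (x.2 n)

/-- The map to the affine blow-up algebra. -/
noncomputable def σh (a : I) : Away (Rees.deg (reesAlgebra I)) (tX a) →+* BlowUp.affineAlgebra A I (a : A) :=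
  (σ₀ a).codRestrict _ (σ₀_mem a)

lemma σh_fromZero (a : I) (r : A) :
    σh a (fromZeroRingHom (Rees.deg (reesAlgebra I)) (Submonoid.powers (tX a)) (algebraMap A (Rees.deg (reesAlgebra I) 0) r)) =
      algebraMap A _ r := by
  apply Subtype.ext
  show σ₀ a _ = algebraMap A (Localization.Away (a : A)) r
  rw [σ₀, RingHom.comp_apply]
  rw [HomogeneousLocalization.algebraMap_apply]
  have h : (fromZeroRingHom (Rees.deg (reesAlgebra I)) (Submonoid.powers (tX a))
      (algebraMap A (Rees.deg (reesAlgebra I) 0) r)).val =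
      algebraMap (reesAlgebra I) (Localization.Away (tX a)) (algebraMap A (reesAlgebra I) r) := by
    show Localization.mk _ _ = _
    rw [← Localization.mk_one_eq_algebraMap]
    rfl
  rw [h, IsLocalization.Away.lift_eq]
  show aeval (1 : Localization.Away (a : A)) (algebraMap A A[X] r) = _
  exact AlgHom.commutes _ r

/-- The element `x / a` of the degree zero part. -/
noncomputable def quot (a x : I) : Away (Rees.deg (reesAlgebra I)) (tX a) :=
  Away.isLocalizationElem (tX_mem a) (tX_mem x)

lemma σh_quot (a x : I) :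
    (σh a (quot a x) : Localization.Away (a : A)) = frac (a : A) x 1 := by
  show σ₀ a _ = _
  rw [quot, Away.isLocalizationElem, σ₀_mk, pow_one]
  show frac (a : A) ((monomial 1 (x : A)).coeff 1) 1 = _
  rw [coeff_monomial, if_pos rfl]

lemma σh_quot_mul (a x : I) :
    σh a (quot a x) * algebraMap A _ (a : A) = algebraMap A _ (x : A) := by
  apply Subtype.ext
  rw [Subalgebra.coe_mul, σh_quot]
  show frac (a : A) x 1 * algebraMap A (Localization.Away (a : A)) a = algebraMap A _ (x : A)
  rw [frac, pow_one, mul_assoc, mul_comm (IsLocalization.Away.invSelf (a : A)),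
    IsLocalization.Away.mul_invSelf, mul_one]

lemma σh_injective (a : I) : Function.Injective (σh a) := by
  rw [injective_iff_map_eq_zero]
  intro z hz
  obtain ⟨n, x, hx, rfl⟩ := Away.mk_surjective _ (tX_mem a) z
  have h0 : frac (a : A) ((x : A[X]).coeff n) n = 0 := by
    rw [← σ₀_mk a n x hx]; exact congrArg Subtype.val hz
  have h1 : algebraMap A (Localization.Away (a : A)) ((x : A[X]).coeff n) = 0 := by
    have h := congrArg (· * algebraMap A (Localization.Away (a : A)) a ^ n) h0
    simp only [zero_mul, frac, mul_assoc, ← mul_pow] at h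
    rwa [mul_comm (IsLocalization.Away.invSelf (a : A)), IsLocalization.Away.mul_invSelf, one_pow,
      mul_one] at h
  obtain ⟨⟨_, k, rfl⟩, hk⟩ := (IsLocalization.map_eq_zero_iff (Submonoid.powers (a : A))
    (Localization.Away (a : A)) _).mp h1
  apply HomogeneousLocalization.val_injective
  rw [Away.val_mk, HomogeneousLocalization.val_zero, Localization.mk_eq_mk',
    IsLocalization.mk'_eq_zero_iff]
  refine ⟨⟨tX a ^ k, k, rfl⟩, Subtype.ext ?_⟩
  have hxn : (x : A[X]) = monomial n ((x : A[X]).coeff n) :=
    eq_monomial_of_mem (by simpa using hx)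
  show ((tX a ^ k : reesAlgebra I) : A[X]) * (x : A[X]) = 0
  rw [SubmonoidClass.coe_pow]
  show (monomial 1 (a : A)) ^ k * (x : A[X]) = 0
  rw [hxn, monomial_pow, monomial_mul_monomial]
  simp only at hk
  rw [hk, map_zero]

lemma σh_surjective (a : I) : Function.Surjective (σh a) := by
  rintro ⟨q, hq⟩
  induction hq using Algebra.adjoin_induction with
  | mem q hq =>
    obtain ⟨x, hx, rfl⟩ := hq
    refine ⟨quot a ⟨x, hx⟩, Subtype.ext ?_⟩
    rw [σh_quot, frac, pow_one]
    show _ = IsLocalization.mk' (Localization.Away (a : A)) x _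
    rw [IsLocalization.mk'_eq_mul_mk'_one x, IsLocalization.Away.invSelf]
  | algebraMap r => exact ⟨_, σh_fromZero a r⟩
  | add p q _ _ hp hq =>
    obtain ⟨u, hu⟩ := hp; obtain ⟨v, hv⟩ := hq
    exact ⟨u + v, by rw [map_add, hu, hv]; rfl⟩
  | mul p q _ _ hp hq =>
    obtain ⟨u, hu⟩ := hp; obtain ⟨v, hv⟩ := hq
    exact ⟨u * v, by rw [map_mul, hu, hv]; rfl⟩

/-- The chart isomorphism. -/
noncomputable def σ (a : I) : Away (Rees.deg (reesAlgebra I)) (tX a) ≃+* BlowUp.affineAlgebra A I (a : A) :=
  RingEquiv.ofBijective (σh a) ⟨σh_injective a, σh_surjective a⟩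

lemma irrelevant_le_span :
    (HomogeneousIdeal.irrelevant (Rees.deg (reesAlgebra I))).toIdeal ≤
      Ideal.span (Set.range (tX (I := I))) := by
  classical
  intro z hz
  rw [← DirectSum.sum_support_decompose (Rees.deg (reesAlgebra I)) z]
  refine Ideal.sum_mem _ fun n _ => ?_
  rcases n with _ | n
  · have : (DirectSum.decompose (Rees.deg (reesAlgebra I)) z 0 : reesAlgebra I) = 0 := hz
    rw [this]
    exact zero_mem _
  · generalize (DirectSum.decompose (Rees.deg (reesAlgebra I)) z (n + 1)) = x
    obtain ⟨x, hx⟩ := x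
    have hxn := eq_monomial_of_mem hx
    have key : ∀ c ∈ I ^ (n + 1), ∃ h : monomial (n + 1) c ∈ reesAlgebra I,
        (⟨_, h⟩ : reesAlgebra I) ∈ Ideal.span (Set.range (tX (I := I))) := by
      intro c hc
      rw [pow_succ'] at hc
      refine Submodule.smul_induction_on hc (fun r hr s hs => ?_) fun p q hp hq => ?_
      · refine ⟨reesAlgebra.monomial_mem.mpr (by rw [pow_succ']; exact Ideal.mul_mem_mul hr hs), ?_⟩
        have : (⟨monomial (n + 1) (r • s), reesAlgebra.monomial_mem.mpr
            (by rw [pow_succ']; exact Ideal.mul_mem_mul hr hs)⟩ : reesAlgebra I) =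
            tX ⟨r, hr⟩ * ⟨monomial n s, reesAlgebra.monomial_mem.mpr hs⟩ := by
          apply Subtype.ext
          show monomial (n + 1) (r • s) = monomial 1 r * monomial n s
          rw [monomial_mul_monomial, smul_eq_mul, add_comm]
        rw [this]
        exact Ideal.mul_mem_right _ _ (Ideal.subset_span ⟨_, rfl⟩)
      · obtain ⟨h1, hp⟩ := hp; obtain ⟨h2, hq⟩ := hq
        refine ⟨by rw [map_add]; exact add_mem h1 h2, ?_⟩
        convert add_mem hp hq using 1
        exact Subtype.ext (map_add _ p q)
    obtain ⟨h, hk⟩ := key _ (x.2 (n + 1))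
    convert hk using 1
    exact Subtype.ext hxn

end Groth.Agent.ReesBlow28
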