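import Groth.Agent.Lib.ReesBlow28.Chart
import Groth.Agent.Lib.BlowUpExist.Local
import Groth.Prelude.Def_ega3
import Mathlib.AlgebraicGeometry.ProjectiveSpectrum.Basic

/-!
# `Proj` of the Rees algebra is the blow-up
-/

set_option autoImplicit false
set_option backward.isDefEq.respectTransparency false
universe u

open AlgebraicGeometry CategoryTheory CategoryTheory.Limits
open AlgebraicGeometry.Scheme.IdealSheafData
open Groth.Agent.BlowUpExist (isEffCartierIdeal_comap_of_isOpenImmersion isEffCartierIdeal_of_cover)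

namespace Groth.Agent.ReesBlow28

variable {A : Type u} [CommRing A] (I : Ideal A)

/-- The structure morphism. -/
noncomputable abbrev π : Proj (Rees.deg (reesAlgebra I)) ⟶ Spec (CommRingCat.of A) :=
  Proj (Rees.deg (reesAlgebra I)) ↘ Spec (CommRingCat.of A)

/-- The ideal sheaf of `I`. -/
noncomputable abbrev centre : (Spec (CommRingCat.of A)).IdealSheafData :=
  ofIdealTop (I.map (Scheme.ΓSpecIso (CommRingCat.of A)).inv.hom)

section Gamma

variable {B : Type u} [CommRing B] {Y Z : Scheme.{u}}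

/-- The ring map of a morphism to `Spec B`. -/
noncomputable def ringMap (h : Y ⟶ Spec (CommRingCat.of B)) : B →+* Γ(Y, ⊤) :=
  ((Scheme.ΓSpecIso (CommRingCat.of B)).inv ≫ h.appTop).hom

lemma ringMap_comp (j : Z ⟶ Y) (h : Y ⟶ Spec (CommRingCat.of B)) :
    ringMap (j ≫ h) = j.appTop.hom.comp (ringMap h) := by
  rw [ringMap, ringMap, Scheme.Hom.comp_appTop, ← Category.assoc, CommRingCat.hom_comp]

lemma ringMap_comp_specMap (k : Y ⟶ Spec (CommRingCat.of B)) {C : Type u} [CommRing C] (f : C →+* B) :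
    ringMap (k ≫ Spec.map (CommRingCat.ofHom f)) = (ringMap k).comp f := by
  have h := Scheme.ΓSpecIso_inv_naturality (CommRingCat.ofHom f)
  show ((Scheme.ΓSpecIso _).inv ≫ (k ≫ Spec.map (CommRingCat.ofHom f)).appTop).hom = _
  rw [Scheme.Hom.comp_appTop, ← Category.assoc]
  erw [← h]
  rfl

lemma ringMap_inj {k k' : Y ⟶ Spec (CommRingCat.of B)} (h : ringMap k = ringMap k') : k = k' := by
  refine ext_of_isAffine ?_
  rw [← cancel_epi (Scheme.ΓSpecIso (CommRingCat.of B)).inv]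
  exact CommRingCat.hom_ext h

lemma exists_ringMap (ψ : B →+* Γ(Y, ⊤)) : ∃ k : Y ⟶ Spec (CommRingCat.of B), ringMap k = ψ := by
  refine ⟨Y.toSpecΓ ≫ Spec.map (CommRingCat.ofHom ψ), ?_⟩
  rw [ringMap_comp_specMap (B := Γ(Y, ⊤)) Y.toSpecΓ ψ]
  have h : ringMap (B := Γ(Y, ⊤)) Y.toSpecΓ = RingHom.id _ := by
    show ((Scheme.ΓSpecIso Γ(Y, ⊤)).inv ≫ Y.toSpecΓ.appTop).hom = _
    rw [Scheme.toSpecΓ_appTop, Iso.inv_hom_id, CommRingCat.hom_id]
  rw [h, RingHom.id_comp]

lemma ideal_centre_comap [IsAffine Y] (g : Y ⟶ Spec (CommRingCat.of A)) :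
    ((centre I).comap g).ideal ⟨⊤, isAffineOpen_top Y⟩ = I.map (ringMap g) := by
  rw [EffCartier.comap_ideal_top]
  simp only [centre, ofIdealTop_ideal]
  erw [CategoryTheory.Functor.map_id]
  rw [CommRingCat.hom_id, Ideal.map_id, Ideal.map_map]
  rfl

/-- The element `a` generates the ideal. -/
def Good (a : I) (g : Y ⟶ Spec (CommRingCat.of A)) : Prop :=
  I.map (ringMap g) = Ideal.span {ringMap g a}

variable {I}

lemma Good.comp {a : I} {g : Y ⟶ Spec (CommRingCat.of A)} (h : Good I a g) (j : Z ⟶ Y) :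
    Good I a (j ≫ g) := by
  rw [Good, ringMap_comp, ← Ideal.map_map, h, Ideal.map_span, Set.image_singleton]
  rfl

lemma Good.nzd [IsAffine Y] {a : I} {g : Y ⟶ Spec (CommRingCat.of A)} (h : Good I a g)
    (hEC : BlowUp.IsEffCartierIdeal ((centre I).comap g)) : ringMap g a ∈ nonZeroDivisors Γ(Y, ⊤) :=
  EffCartier.mem_nonZeroDivisors_of_ideal_eq hEC ⟨⊤, isAffineOpen_top Y⟩ _
    ((ideal_centre_comap I g).trans h)

lemma exists_good (g : Y ⟶ Spec (CommRingCat.of A))
    (hEC : BlowUp.IsEffCartierIdeal ((centre I).comap g)) (y : Y) :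
    ∃ (Z : Scheme.{u}) (j : Z ⟶ Y) (_ : IsOpenImmersion j) (_ : IsAffine Z) (a : I),
      y ∈ Set.range j ∧ Good I a (j ≫ g) := by
  obtain ⟨V, hyV, f, hf⟩ := EffCartier.isEffCartierIdeal_iff.mp hEC y
  have hV : IsAffine V.1.toScheme := V.2
  let Tp : V.1.toScheme.affineOpens := ⟨⊤, isAffineOpen_top _⟩
  have hle : Tp.1 ≤ V.1.ι ⁻¹ᵁ V.1 := fun z _ => z.2
  let φ := ringMap (V.1.ι ≫ g)
  let F : Γ(V.1.toScheme, ⊤) := V.1.ι.appLE V.1 ⊤ hle f
  have hgen : I.map φ = Ideal.span {F} := by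
    rw [← ideal_centre_comap I (V.1.ι ≫ g), Scheme.IdealSheafData.comap_comp]
    exact EffCartier.comap_ideal_eq_span hf V.1.ι Tp hle
  have hF : F ∈ nonZeroDivisors Γ(V.1.toScheme, ⊤) := by
    refine EffCartier.mem_nonZeroDivisors_of_ideal_eq
      (E := ((centre I).comap g).comap V.1.ι) (isEffCartierIdeal_comap_of_isOpenImmersion hEC V.1.ι)
      Tp _ ?_
    exact EffCartier.comap_ideal_eq_span hf V.1.ι Tp hle
  let K : Ideal Γ(V.1.toScheme, ⊤) := Ideal.span {t | ∃ a : I, φ a = F * t}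
  have hK : K = ⊤ := by
    have hle' : I.map φ ≤ Ideal.span {F} * K := Ideal.map_le_iff_le_comap.mpr fun a ha => by
      obtain ⟨t, ht⟩ := Ideal.mem_span_singleton.mp (hgen ▸ Ideal.mem_map_of_mem φ ha)
      rw [Ideal.mem_comap, ht]
      exact Ideal.mul_mem_mul (Ideal.mem_span_singleton_self F) (Ideal.subset_span ⟨⟨a, ha⟩, ht⟩)
    have hmem : F ∈ Ideal.span {F} * K := hle' (hgen ▸ Ideal.mem_span_singleton_self F)
    obtain ⟨z, hz, hzF⟩ := Ideal.mem_span_singleton_mul.mp hmem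
    have hz1 : z = 1 := (mul_cancel_left_mem_nonZeroDivisors hF).mp (by rw [hzF, mul_one])
    exact (Ideal.eq_top_iff_one _).mpr (hz1 ▸ hz)
  have hcov := (isAffineOpen_top V.1.toScheme).iSup_basicOpen_eq_self_iff.mpr hK
  have hy' : (⟨y, hyV⟩ : V.1.toScheme) ∈ (⊤ : V.1.toScheme.Opens) := trivial
  rw [← hcov] at hy'
  obtain ⟨⟨t, a, hat⟩, hyt⟩ := TopologicalSpace.Opens.mem_iSup.mp hy'
  let W := V.1.toScheme.basicOpen t
  have hW : IsAffine W.toScheme := (isAffineOpen_top V.1.toScheme).basicOpen t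
  refine ⟨W.toScheme, W.ι ≫ V.1.ι, inferInstance, hW, a, ⟨⟨⟨y, hyV⟩, hyt⟩, rfl⟩, ?_⟩
  rw [Good, Category.assoc, ringMap_comp, ← Ideal.map_map]
  show Ideal.map _ (I.map φ) = Ideal.span {W.ι.appTop.hom (φ a)}
  rw [hgen, Ideal.map_span, Set.image_singleton, hat, map_mul]
  refine (Ideal.span_singleton_mul_right_unit ?_ _).symm
  have hu : IsUnit (W.ι.appTop.hom t) := by
    have hres : ∀ (U : V.1.toScheme.Opens) (e : U ≤ W),
        IsUnit (V.1.toScheme.presheaf.map (homOfLE (le_top : U ≤ ⊤)).op t) := fun U e => by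
      rw [show (homOfLE (le_top : U ≤ ⊤)).op = (homOfLE (le_top : W ≤ ⊤)).op ≫ (homOfLE e).op from rfl,
        Functor.map_comp]
      exact IsUnit.map (V.1.toScheme.presheaf.map (homOfLE e).op).hom (RingedSpace.isUnit_res_basicOpen _ t)
    rw [Scheme.Opens.ι_appTop]
    exact hres _ (W.ι_image_le _)
  exact hu

end Gamma

/-- The chart of `Proj`. -/
noncomputable def ι (a : I) :
    Spec (CommRingCat.of (BlowUp.affineAlgebra A I (a : A))) ⟶ Proj (Rees.deg (reesAlgebra I)) :=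
  Spec.map (σ a).toCommRingCatIso.hom ≫ Proj.awayι _ (tX a) (tX_mem a) Nat.one_pos

instance (a : I) : IsOpenImmersion (ι I a) := by
  unfold ι; infer_instance

lemma opensRange_ι (a : I) : (ι I a).opensRange = Proj.basicOpen _ (tX a) :=
  (Scheme.Hom.opensRange_comp_of_isIso _ _).trans (Proj.opensRange_awayι ..)

lemma ι_π (a : I) :
    ι I a ≫ π I = Spec.map (CommRingCat.ofHom (algebraMap A (BlowUp.affineAlgebra A I (a : A)))) := by
  show (Spec.map (σ a).toCommRingCatIso.hom ≫ Proj.awayι _ (tX a) (tX_mem a) Nat.one_pos) ≫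
    (Proj.toSpecZero _ ≫ Spec.map (CommRingCat.ofHom (algebraMap A (Rees.deg (reesAlgebra I) 0)))) = _
  rw [Category.assoc, Proj.awayι_toSpecZero_assoc, ← Spec.map_comp, ← Spec.map_comp]
  congr 1
  ext r : 2
  exact σh_fromZero a r

lemma exists_mem_range (p : ↥(Proj (Rees.deg (reesAlgebra I)))) : ∃ a : I, p ∈ Proj.basicOpen _ (tX a) :=
  TopologicalSpace.Opens.mem_iSup.mp
    ((Proj.iSup_basicOpen_eq_top _ _ (irrelevant_le_span (I := I))).ge (Set.mem_univ p))

lemma ι_preimage (a b : I) :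
    ι I b ⁻¹ᵁ Proj.basicOpen _ (tX a) = PrimeSpectrum.basicOpen (σh b (quot b a)) := by
  rw [ι, Scheme.Hom.comp_preimage,
    Proj.awayι_preimage_basicOpen _ (tX_mem b) Nat.one_pos (tX_mem a) Nat.one_pos]
  exact PrimeSpectrum.comap_basicOpen (σh b) (quot b a)

lemma isEffCartier_centre : BlowUp.IsEffCartierIdeal ((centre I).comap (π I)) := by
  refine isEffCartierIdeal_of_cover (fun a : I => ι I a) (fun p => ?_) fun a => ?_
  · obtain ⟨a, ha⟩ := exists_mem_range I p
    rw [← opensRange_ι] at ha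
    exact ⟨a, ha⟩
  · rw [← Scheme.IdealSheafData.comap_comp, ι_π]
    let B := BlowUp.affineAlgebra A I (a : A)
    let e := (Scheme.ΓSpecIso (CommRingCat.of B)).commRingCatIsoToRingEquiv
    have hr : ringMap (Spec.map (CommRingCat.ofHom (algebraMap A B))) =
        e.symm.toRingHom.comp (algebraMap A B) := by
      show ((Scheme.ΓSpecIso _).inv ≫ (Spec.map _).appTop).hom = _
      erw [← Scheme.ΓSpecIso_inv_naturality]
      rfl
    refine EffCartier.isEffCartierIdeal_iff.mpr fun x => ⟨⟨⊤, isAffineOpen_top _⟩, trivial,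
      ringMap (Spec.map (CommRingCat.ofHom (algebraMap A B))) a, ?_, ?_⟩
    · rw [hr, mem_nonZeroDivisors_iff_right]
      intro z hz
      have h := congrArg e hz
      rw [map_mul, map_zero] at h
      have h' : e z * algebraMap A B a = 0 := by
        refine Eq.trans ?_ h
        congr 1
        exact (e.apply_symm_apply _).symm
      exact e.injective (((mem_nonZeroDivisors_iff_right.mp
        (BlowUpExist.algebraMap_mem_nonZeroDivisors I (a : A))) _ h').trans (map_zero e).symm)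
    · rw [ideal_centre_comap, hr, ← Ideal.map_map, BlowUpExist.map_eq_span I _ a.2, Ideal.map_span,
        Set.image_singleton]
      rfl

variable {Y : Scheme.{u}}

lemma exists_lift [IsAffine Y] (g : Y ⟶ Spec (CommRingCat.of A))
    (hEC : BlowUp.IsEffCartierIdeal ((centre I).comap g)) (a : I) (ha : Good I a g) :
    ∃! l : Y ⟶ Spec (CommRingCat.of (BlowUp.affineAlgebra A I (a : A))),
      l ≫ Spec.map (CommRingCat.ofHom (algebraMap A _)) = g := by
  obtain ⟨ψ, hψ, huniq⟩ :=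
    BlowUpExist.existsUnique_lift I (a : A) (ringMap g) (ha.nzd hEC) (le_of_eq ha)
  obtain ⟨l, hl⟩ := exists_ringMap ψ
  refine ⟨l, ringMap_inj (by rw [ringMap_comp_specMap, hl]; exact hψ), fun l' hl' => ringMap_inj ?_⟩
  rw [hl]
  exact huniq _ (by beta_reduce; rw [← ringMap_comp_specMap, hl'])

set_option maxHeartbeats 1000000 in
lemma mem_basicOpen_of_good [IsAffine Y] (g : Y ⟶ Spec (CommRingCat.of A))
    (hEC : BlowUp.IsEffCartierIdeal ((centre I).comap g)) (a : I) (ha : Good I a g)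
    (k : Y ⟶ Proj (Rees.deg (reesAlgebra I))) (hk : k ≫ π I = g) (y : Y) :
    k y ∈ Proj.basicOpen _ (tX a) := by
  obtain ⟨b, hb⟩ := exists_mem_range I (k y)
  rw [← opensRange_ι] at hb
  obtain ⟨W, hW, hyW, hWb⟩ :=
    exists_isAffineOpen_mem_and_subset (show y ∈ k ⁻¹ᵁ (ι I b).opensRange from hb)
  have : IsAffine W.toScheme := hW
  have hrange : Set.range (W.ι ≫ k) ⊆ Set.range (ι I b) := by
    rintro _ ⟨z, rfl⟩
    exact hWb z.2
  let l := IsOpenImmersion.lift (ι I b) (W.ι ≫ k) hrange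
  have hl : l ≫ ι I b = W.ι ≫ k := IsOpenImmersion.lift_fac _ _ _
  have hlg : l ≫ Spec.map (CommRingCat.ofHom (algebraMap A _)) = W.ι ≫ g := by
    rw [← ι_π, ← Category.assoc, hl, Category.assoc, hk]
  let B := BlowUp.affineAlgebra A I (b : A)
  let ψ : B →+* Γ(W.toScheme, ⊤) := ringMap l
  have hψ : ∀ r, ψ (algebraMap A B r) = ringMap (W.ι ≫ g) r := fun r => by
    rw [← hlg, ringMap_comp_specMap]; rfl
  have hgood := ha.comp W.ι
  have hEC' : BlowUp.IsEffCartierIdeal ((centre I).comap (W.ι ≫ g)) := by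
    rw [Scheme.IdealSheafData.comap_comp]
    exact isEffCartierIdeal_comap_of_isOpenImmersion hEC W.ι
  obtain ⟨s, hs⟩ := Ideal.mem_span_singleton.mp
    (hgood ▸ Ideal.mem_map_of_mem (ringMap (W.ι ≫ g)) b.2)
  let q : B := σh b (quot b a)
  have hunit : IsUnit (ψ q) := by
    refine IsUnit.of_mul_eq_one s ((mul_cancel_left_mem_nonZeroDivisors (hgood.nzd hEC')).mp ?_)
    rw [mul_one]
    conv_rhs => rw [← hψ a, ← σh_quot_mul b a, map_mul, hψ b, hs]
    show ringMap (W.ι ≫ g) a * (ψ q * s) = ψ q * (ringMap (W.ι ≫ g) a * s)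
    ring
  have hmem : l ⟨y, hyW⟩ ∈ (PrimeSpectrum.basicOpen q : TopologicalSpace.Opens _) := by
    rw [← basicOpen_eq_of_affine (R := CommRingCat.of B) q]
    suffices h : (⟨y, hyW⟩ : W.toScheme) ∈
        l ⁻¹ᵁ (Spec (CommRingCat.of B)).basicOpen ((Scheme.ΓSpecIso (CommRingCat.of B)).inv q) from h
    rw [Scheme.preimage_basicOpen_top]
    suffices h : (⟨y, hyW⟩ : W.toScheme) ∈ W.toScheme.basicOpen (ψ q) from h
    rw [Scheme.basicOpen_of_isUnit _ hunit]
    exact trivial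
  have hky : k y = ι I b (l ⟨y, hyW⟩) := by
    rw [← Scheme.Hom.comp_apply, hl]; rfl
  rw [hky]
  exact (ι_preimage I a b).ge hmem

lemma hom_ext (g : Y ⟶ Spec (CommRingCat.of A))
    (hEC : BlowUp.IsEffCartierIdeal ((centre I).comap g))
    {k k' : Y ⟶ Proj (Rees.deg (reesAlgebra I))} (hk : k ≫ π I = g) (hk' : k' ≫ π I = g) : k = k' := by
  choose Z j hj hZ a hy hgood using exists_good g hEC
  let 𝒰 : Y.OpenCover := Scheme.Cover.mkOfCovers Y Z j (fun y => ⟨y, hy y⟩) hj
  refine Scheme.Cover.hom_ext 𝒰 _ _ fun (y : Y) => ?_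
  show j y ≫ k = j y ≫ k'
  have := hj y
  have := hZ y
  have hE : BlowUp.IsEffCartierIdeal ((centre I).comap (j y ≫ g)) := by
    rw [Scheme.IdealSheafData.comap_comp]
    exact isEffCartierIdeal_comap_of_isOpenImmersion hEC (j y)
  have hr : ∀ {m : Y ⟶ Proj (Rees.deg (reesAlgebra I))}, m ≫ π I = g →
      Set.range (j y ≫ m) ⊆ Set.range (ι I (a y)) := by
    rintro m hm _ ⟨z, rfl⟩
    have h := mem_basicOpen_of_good I (j y ≫ g) hE (a y) (hgood y) (j y ≫ m)
      (by rw [Category.assoc, hm]) z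
    rw [← opensRange_ι] at h
    exact h
  rw [← IsOpenImmersion.lift_fac (ι I (a y)) (j y ≫ k) (hr hk),
    ← IsOpenImmersion.lift_fac (ι I (a y)) (j y ≫ k') (hr hk')]
  congr 1
  refine (exists_lift I (j y ≫ g) hE (a y) (hgood y)).unique ?_ ?_
  · rw [← ι_π, IsOpenImmersion.lift_fac_assoc, Category.assoc, hk]
  · rw [← ι_π, IsOpenImmersion.lift_fac_assoc, Category.assoc, hk']

lemma exists_hom (g : Y ⟶ Spec (CommRingCat.of A))
    (hEC : BlowUp.IsEffCartierIdeal ((centre I).comap g)) :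
    ∃ k : Y ⟶ Proj (Rees.deg (reesAlgebra I)), k ≫ π I = g := by
  choose Z j hj hZ a hy hgood using exists_good g hEC
  let 𝒰 : Y.OpenCover := Scheme.Cover.mkOfCovers Y Z j (fun y => ⟨y, hy y⟩) hj
  have hE : ∀ y, BlowUp.IsEffCartierIdeal ((centre I).comap (j y ≫ g)) := fun y => by
    have := hj y
    rw [Scheme.IdealSheafData.comap_comp]
    exact isEffCartierIdeal_comap_of_isOpenImmersion hEC (j y)
  choose l hl using fun y => have := hZ y; (exists_lift I (j y ≫ g) (hE y) (a y) (hgood y)).exists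
  have hlπ : ∀ y, (l y ≫ ι I (a y)) ≫ π I = j y ≫ g := fun y => by
    rw [Category.assoc, ι_π, hl]
  have hcomp : ∀ p q : Y, pullback.fst (j p) (j q) ≫ l p ≫ ι I (a p) =
      pullback.snd (j p) (j q) ≫ l q ≫ ι I (a q) := by
    intro p q
    have := hj p; have := hj q
    refine hom_ext I (pullback.fst (j p) (j q) ≫ j p ≫ g) ?_ ?_ ?_
    · rw [Scheme.IdealSheafData.comap_comp]
      exact isEffCartierIdeal_comap_of_isOpenImmersion (hE p) _
    · rw [Category.assoc, hlπ]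
    · rw [Category.assoc, hlπ, ← pullback.condition_assoc]
  refine ⟨Scheme.Cover.glueMorphisms 𝒰 (fun y => l y ≫ ι I (a y)) hcomp, ?_⟩
  refine Scheme.Cover.hom_ext 𝒰 _ _ fun (y : Y) => ?_
  rw [Scheme.Cover.ι_glueMorphisms_assoc]
  exact hlπ y

theorem isBlowUp : BlowUp.IsBlowUp (π I) (centre I) := by
  refine ⟨isEffCartier_centre I, fun Y g hEC => ?_⟩
  obtain ⟨k, hk⟩ := exists_hom I g hEC
  exact ⟨k, hk, fun k' hk' => hom_ext I g hEC hk' hk⟩

end Groth.Agent.ReesBlow28
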